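import Groth.Agent.Lib.ClassRes.Basic
import Mathlib.Algebra.Homology.Opposite
import Mathlib.CategoryTheory.Abelian.Opposite

/-!
Passing a cochain complex indexed by `ℤ` to the opposite category, and resolutions on the left.
-/

set_option autoImplicit false

universe v u

open CategoryTheory CategoryTheory.Limits

namespace Groth.Agent.ClassRes

variable {A : Type u} [Category.{v} A] [Abelian A]

/-- `K` as a complex in the opposite category. -/
@[simps]
def dual (K : CochainComplex A ℤ) : CochainComplex Aᵒᵖ ℤ where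
  X n := Opposite.op (K.X (-n))
  d i j := (K.d (-j) (-i)).op
  shape i j h := by rw [K.shape _ _ (by simp at h ⊢; omega), op_zero]
  d_comp_d' i j k _ _ := by rw [← op_comp, K.d_comp_d, op_zero]

/-- A complex in the opposite category as a complex in `A`. -/
@[simps]
def undual (L : CochainComplex Aᵒᵖ ℤ) : CochainComplex A ℤ where
  X n := (L.X (-n)).unop
  d i j := (L.d (-j) (-i)).unop
  shape i j h := by rw [L.shape _ _ (by simp at h ⊢; omega), unop_zero]
  d_comp_d' i j k _ _ := by rw [← unop_comp, L.d_comp_d, unop_zero]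

/-- Functoriality of `undual`. -/
@[simps]
def undualMap {L L' : CochainComplex Aᵒᵖ ℤ} (φ : L ⟶ L') : undual L' ⟶ undual L where
  f n := (φ.f (-n)).unop
  comm' i j _ := congrArg Quiver.Hom.unop (φ.comm (-j) (-i)).symm

/-- Functoriality of `dual`. -/
@[simps]
def dualMap {K K' : CochainComplex A ℤ} (φ : K ⟶ K') : dual K' ⟶ dual K where
  f n := (φ.f (-n)).op
  comm' i j _ := congrArg Quiver.Hom.op (φ.comm (-j) (-i)).symm

/-- `undual` inverts `dual`. -/
noncomputable def undualDualIso (K : CochainComplex A ℤ) : undual (dual K) ≅ K :=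
  HomologicalComplex.Hom.isoOfComponents (fun n => K.XIsoOfEq (neg_neg n)) (fun i j _ => by
    change (K.XIsoOfEq (neg_neg i)).hom ≫ K.d i j = K.d (- -i) (- -j) ≫ (K.XIsoOfEq (neg_neg j)).hom
    rw [HomologicalComplex.XIsoOfEq_hom_comp_d, HomologicalComplex.d_comp_XIsoOfEq_hom])

theorem quasiIso_undualMap {L L' : CochainComplex Aᵒᵖ ℤ} (φ : L ⟶ L') [QuasiIso φ] :
    QuasiIso (undualMap φ) := by
  constructor
  intro n
  rw [quasiIsoAt_iff' _ (n - 1) n (n + 1) (by simp) (by simp)]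
  have h : ShortComplex.QuasiIso ((HomologicalComplex.shortComplexFunctor' _ _ (-(n + 1)) (-n)
      (-(n - 1))).map φ) :=
    (quasiIsoAt_iff' φ _ _ _ (by simp; omega) (by simp; omega)).1 inferInstance
  exact ShortComplex.quasiIso_unopMap
    ((HomologicalComplex.shortComplexFunctor' _ _ (-(n + 1)) (-n) (-(n - 1))).map φ)

theorem quasiIso_dualMap {K K' : CochainComplex A ℤ} (φ : K ⟶ K') [QuasiIso φ] :
    QuasiIso (dualMap φ) := by
  constructor
  intro n
  rw [quasiIsoAt_iff' _ (n - 1) n (n + 1) (by simp) (by simp)]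
  have h : ShortComplex.QuasiIso ((HomologicalComplex.shortComplexFunctor' _ _ (-(n + 1)) (-n)
      (-(n - 1))).map φ) :=
    (quasiIsoAt_iff' φ _ _ _ (by simp; omega) (by simp; omega)).1 inferInstance
  exact (ShortComplex.quasiIso_opMap_iff _).2 h

theorem isStrictlyGE_dual (K : CochainComplex A ℤ) (a b : ℤ) (h : a + b = 0) [K.IsStrictlyLE a] :
    (dual K).IsStrictlyGE b :=
  (CochainComplex.isStrictlyGE_iff _ _).2 fun n hn =>
    (K.isZero_of_isStrictlyLE a (-n) (by omega)).op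

theorem isStrictlyLE_undual (L : CochainComplex Aᵒᵖ ℤ) (a b : ℤ) (h : a + b = 0) [L.IsStrictlyGE b] :
    (undual L).IsStrictlyLE a :=
  (CochainComplex.isStrictlyLE_iff _ _).2 fun n hn =>
    (L.isZero_of_isStrictlyGE b (-n) (by omega)).unop

theorem exists_leftResolution_epi {P : A → Prop} (hP0 : ∃ Z : A, IsZero Z ∧ P Z)
    (hP : ∀ X : A, ∃ (Y : A) (π : Y ⟶ X), P Y ∧ Epi π)
    (K : CochainComplex A ℤ) (a : ℤ) [K.IsStrictlyLE a] :
    ∃ (Q : CochainComplex A ℤ) (α : Q ⟶ K),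
      Q.IsStrictlyLE a ∧ (∀ n, P (Q.X n)) ∧ (∀ n, Epi (α.f n)) ∧ QuasiIso α := by
  obtain ⟨Z, hZ, hPZ⟩ := hP0
  have := isStrictlyGE_dual K a (-a) (by omega)
  obtain ⟨L, α, h1, h2, h3, h4⟩ := exists_resolution_mono (I := fun X : Aᵒᵖ => P X.unop)
    ⟨Opposite.op Z, hZ.op, hPZ⟩ (fun X => by
      obtain ⟨Y, π, hY, hπ⟩ := hP X.unop
      exact ⟨Opposite.op Y, π.op, hY, inferInstanceAs (Mono π.op)⟩) (dual K) (-a)
  refine ⟨undual L, undualMap α ≫ (undualDualIso K).hom, isStrictlyLE_undual L a (-a) (by omega),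
    fun n => h2 (-n), fun n => ?_, ?_⟩
  · have := h3 (-n)
    have : Epi ((undualMap α).f n) := inferInstanceAs (Epi (α.f (-n)).unop)
    rw [HomologicalComplex.comp_f]
    infer_instance
  · have := quasiIso_undualMap α
    infer_instance

theorem exists_leftResolution {P : A → Prop} (hP0 : ∃ Z : A, IsZero Z ∧ P Z)
    (hP : ∀ X : A, ∃ (Y : A) (π : Y ⟶ X), P Y ∧ Epi π)
    (K : CochainComplex A ℤ) (a : ℤ) [K.IsLE a] :
    ∃ (Q : CochainComplex A ℤ) (α : Q ⟶ K), Q.IsStrictlyLE a ∧ (∀ n, P (Q.X n)) ∧ QuasiIso α := by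
  obtain ⟨Q, α, h1, h2, -, h4⟩ := exists_leftResolution_epi hP0 hP (K.truncLE a) a
  exact ⟨Q, α ≫ K.ιTruncLE a, h1, h2, inferInstance⟩

end Groth.Agent.ClassRes
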