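import Mathlib.Algebra.Homology.Embedding.CochainComplex
import Mathlib.Algebra.Homology.Embedding.ExtendHomology
import Mathlib.Algebra.Homology.Refinements

/-!
Resolutions of bounded below complexes by a class `I` of objects receiving monomorphisms from
every object: injective quasi-isomorphisms into complexes with terms in `I`.
-/

set_option autoImplicit false

universe v u

open CategoryTheory CategoryTheory.Limits

namespace Groth.Agent.ClassRes

variable {A : Type u} [Category.{v} A] [Abelian A] {I : A → Prop}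

section nat

variable (hI : ∀ X : A, ∃ (Y : A) (ι : X ⟶ Y), I Y ∧ Mono ι)

/-- A chosen object of the class containing `X`. -/
noncomputable def env (X : A) : A := (hI X).choose

/-- The chosen monomorphism. -/
noncomputable def emb (X : A) : X ⟶ env hI X := (hI X).choose_spec.choose

theorem env_mem (X : A) : I (env hI X) := (hI X).choose_spec.choose_spec.1

instance mono_emb (X : A) : Mono (emb hI X) := (hI X).choose_spec.choose_spec.2

variable (K : CochainComplex A ℕ)

/-- One stage of the inductive construction. -/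
structure Stage (k : ℕ) where
  /-- the previous term -/
  Y : A
  /-- the new term -/
  L : A
  /-- the map from the complex -/
  f : K.X k ⟶ L
  /-- the differential -/
  δ : Y ⟶ L
  mem : I L
  inv : ∀ ⦃W : A⦄ (x : W ⟶ K.X k) (y : W ⟶ Y), x ≫ f = y ≫ δ → x ≫ K.d k (k + 1) = 0
  mono : Mono f

variable {K}

/-- The relations to be divided out. -/
noncomputable def Stage.rel {k : ℕ} (s : Stage (I := I) K k) : s.Y ⊞ K.X k ⟶ s.L ⊞ K.X (k + 1) :=
  biprod.desc (s.δ ≫ biprod.inl) (s.f ≫ biprod.inl - K.d k (k + 1) ≫ biprod.inr)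

variable {hI}

theorem Stage.exists_of_eq {k : ℕ} (s : Stage (I := I) K k) {W : A} (l : W ⟶ s.L)
    (x' : W ⟶ K.X (k + 1))
    (h : (l ≫ biprod.inl + x' ≫ biprod.inr) ≫ cokernel.π s.rel ≫ emb hI (cokernel s.rel) = 0) :
    ∃ (W' : A) (p : W' ⟶ W) (_ : Epi p) (y : W' ⟶ s.Y) (x : W' ⟶ K.X k),
      p ≫ l = y ≫ s.δ + x ≫ s.f ∧ p ≫ x' = -(x ≫ K.d k (k + 1)) := by
  rw [← Category.assoc] at h
  have h' := zero_of_comp_mono _ h
  obtain ⟨W', p, hp, w, hw⟩ :=
    (ShortComplex.exact_cokernel s.rel).exact_up_to_refinements _ h'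
  dsimp at hw
  refine ⟨W', p, hp, w ≫ biprod.fst, w ≫ biprod.snd, ?_, ?_⟩
  · have := hw =≫ biprod.fst
    simp only [Preadditive.comp_add, Category.assoc, biprod.inl_fst, biprod.inr_fst,
      Category.comp_id, comp_zero, add_zero, Preadditive.add_comp] at this
    rw [this, Category.assoc, Category.assoc, ← Preadditive.comp_add]
    congr 1
    ext <;> simp [Stage.rel]
  · have := hw =≫ biprod.snd
    simp only [Preadditive.comp_add, Category.assoc, biprod.inl_snd, biprod.inr_snd,
      Category.comp_id, comp_zero, zero_add, Preadditive.add_comp] at this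
    rw [this, Category.assoc, ← Preadditive.comp_neg]
    congr 1
    ext <;> simp [Stage.rel]

variable (hI) in
/-- The next stage. -/
noncomputable def Stage.next {k : ℕ} (s : Stage (I := I) K k) : Stage (I := I) K (k + 1) where
  Y := s.L
  L := env hI (cokernel s.rel)
  f := biprod.inr ≫ cokernel.π s.rel ≫ emb hI _
  δ := biprod.inl ≫ cokernel.π s.rel ≫ emb hI _
  mem := env_mem hI _
  inv W x y h := by
    obtain ⟨W', p, hp, y', x', -, h2⟩ := s.exists_of_eq (hI := hI) (-y) x (by
      simp only [Preadditive.add_comp, Preadditive.neg_comp, Category.assoc]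
      rw [h]; simp)
    rw [← cancel_epi p, comp_zero, reassoc_of% h2]
    simp
  mono := by
    rw [Preadditive.mono_iff_cancel_zero]
    intro W x hx
    obtain ⟨W', p, hp, y', x', h1, h2⟩ := s.exists_of_eq (hI := hI) (0 : W ⟶ s.L) x (by
      simpa only [zero_comp, zero_add, Category.assoc] using hx)
    have hd : x' ≫ K.d k (k + 1) = 0 := s.inv x' (-y') (by
      rw [comp_zero] at h1
      rw [Preadditive.neg_comp, eq_neg_iff_add_eq_zero, add_comm, ← h1])
    rw [← cancel_epi p, comp_zero, h2, hd, neg_zero]

variable (hI) in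
/-- The zeroth stage. -/
noncomputable def stageZero : Stage (I := I) K 0 where
  Y := env hI (K.X 0)
  L := env hI (K.X 0)
  f := emb hI _
  δ := 0
  mem := env_mem hI _
  inv W x y h := by
    rw [comp_zero] at h
    rw [zero_of_comp_mono _ h, zero_comp]
  mono := inferInstance

variable (hI) (K) in
/-- All stages. -/
noncomputable def stage : (k : ℕ) → Stage (I := I) K k
  | 0 => stageZero hI
  | k + 1 => (stage k).next hI

variable (hI) (K) in
/-- The resolution. -/
noncomputable def res : CochainComplex A ℕ :=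
  CochainComplex.of (fun k => (stage hI K k).L) (fun k => (stage hI K (k + 1)).δ) (fun k => by
    have h0 : biprod.inl ≫ (stage hI K (k + 1)).rel =
        (stage hI K (k + 1)).δ ≫ biprod.inl := by simp [Stage.rel]
    change (stage hI K (k + 1)).δ ≫ biprod.inl ≫ cokernel.π _ ≫ emb hI _ = 0
    rw [← reassoc_of% h0, cokernel.condition_assoc]
    simp)

variable (hI) (K) in
theorem res_d (k : ℕ) : (res hI K).d k (k + 1) = (stage hI K (k + 1)).δ := by
  simp [res]

variable (hI) (K) in
/-- The map to the resolution. -/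
noncomputable def resι : K ⟶ res hI K where
  f k := (stage hI K k).f
  comm' k l hkl := by
    obtain rfl : k + 1 = l := hkl
    rw [res_d]
    change (stage hI K k).f ≫ biprod.inl ≫ cokernel.π (stage hI K k).rel ≫ emb hI _ =
      K.d k (k + 1) ≫ biprod.inr ≫ cokernel.π (stage hI K k).rel ≫ emb hI _
    have h0 : biprod.inr ≫ (stage hI K k).rel =
        (stage hI K k).f ≫ biprod.inl - K.d k (k + 1) ≫ biprod.inr := by simp [Stage.rel]
    rw [← sub_eq_zero, ← Category.assoc, ← Category.assoc (K.d k (k + 1)),
      ← Preadditive.sub_comp, ← h0, Category.assoc, cokernel.condition_assoc]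
    simp

variable (hI) (K) in
theorem mono_resι_f (k : ℕ) : Mono ((resι hI K).f k) := (stage hI K k).mono

variable (hI) (K) in
theorem res_mem (k : ℕ) : I ((res hI K).X k) := (stage hI K k).mem

variable (hI) (K) in
theorem quasiIso_resι : QuasiIso (resι hI K) := by
  constructor
  intro k
  rw [quasiIsoAt_iff_isIso_homologyMap]
  have hd : ∀ (j : ℕ), (res hI K).d j (j + 1) =
      biprod.inl ≫ cokernel.π (stage hI K j).rel ≫ emb hI _ := fun j => res_d hI K j
  have key : ∀ (i : ℕ) ⦃W : A⦄ (y : W ⟶ (res hI K).X i) (hy : y ≫ (res hI K).d i (i + 1) = 0),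
      ∃ (W' : A) (p : W' ⟶ W) (_ : Epi p) (y' : W' ⟶ (stage hI K i).Y) (x' : W' ⟶ K.X i),
        x' ≫ K.d i (i + 1) = 0 ∧ p ≫ y = x' ≫ (stage hI K i).f + y' ≫ (stage hI K i).δ := by
    intro i W y hy
    rw [hd] at hy
    obtain ⟨W', p, hp, y', x', h1, h2⟩ := (stage hI K i).exists_of_eq (hI := hI) y 0 (by
      rw [zero_comp, add_zero, Category.assoc]; exact hy)
    exact ⟨W', p, hp, y', x', by simpa using h2.symm, h1.trans (add_comm _ _)⟩
  cases k with
  | zero =>
    have h0 : (res hI K).d 0 0 = 0 := HomologicalComplex.shape _ _ _ (by simp)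
    have hepi : Epi (HomologicalComplex.homologyMap (resι hI K) 0) := by
      rw [HomologicalComplex.epi_homologyMap_iff_up_to_refinements _ 0 0 1 (by simp) (by simp)]
      intro W y hy
      obtain ⟨W', p, hp, y', x', hx', h⟩ := key 0 y hy
      exact ⟨W', p, hp, x', hx', 0, h.trans (congrArg (x' ≫ (stage hI K 0).f + ·)
        ((show y' ≫ (stage hI K 0).δ = 0 from comp_zero).trans zero_comp.symm))⟩
    have hmono : Mono (HomologicalComplex.homologyMap (resι hI K) 0) := by
      rw [HomologicalComplex.mono_homologyMap_iff_up_to_refinements _ 0 0 1 (by simp) (by simp)]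
      intro W x hx y hy
      refine ⟨W, 𝟙 W, inferInstance, 0, ?_⟩
      rw [h0, comp_zero] at hy
      have := mono_resι_f hI K 0
      rw [zero_of_comp_mono _ hy]
      simp
    exact isIso_of_mono_of_epi _
  | succ j =>
    have hepi : Epi (HomologicalComplex.homologyMap (resι hI K) (j + 1)) := by
      rw [HomologicalComplex.epi_homologyMap_iff_up_to_refinements _ j (j + 1) (j + 2) (by simp)
        (by simp)]
      intro W y hy
      obtain ⟨W', p, hp, y', x', hx', h⟩ := key (j + 1) y hy
      exact ⟨W', p, hp, x', hx', y', h.trans (congrArg (x' ≫ (stage hI K (j + 1)).f + ·)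
        (congrArg (CategoryStruct.comp y') (res_d hI K j).symm))⟩
    have hmono : Mono (HomologicalComplex.homologyMap (resι hI K) (j + 1)) := by
      rw [HomologicalComplex.mono_homologyMap_iff_up_to_refinements _ j (j + 1) (j + 2) (by simp)
        (by simp)]
      intro W x hx y hy
      rw [res_d] at hy
      obtain ⟨W', p, hp, y', x', -, h2⟩ := (stage hI K j).exists_of_eq (hI := hI) (-y) x (by
        simp only [Preadditive.add_comp, Preadditive.neg_comp, Category.assoc]
        exact (congrArg (· + _) (Preadditive.neg_comp y _)).trans (neg_add_eq_zero.2 hy.symm))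
      exact ⟨W', p, hp, -x', by rw [h2, Preadditive.neg_comp]⟩
    exact isIso_of_mono_of_epi _

end nat

section int

theorem exists_resolution_mono (hI0 : ∃ Z : A, IsZero Z ∧ I Z)
    (hI : ∀ X : A, ∃ (Y : A) (ι : X ⟶ Y), I Y ∧ Mono ι)
    (K : CochainComplex A ℤ) (a : ℤ) [K.IsStrictlyGE a] :
    ∃ (L : CochainComplex A ℤ) (α : K ⟶ L),
      L.IsStrictlyGE a ∧ (∀ n, I (L.X n)) ∧ (∀ n, Mono (α.f n)) ∧ QuasiIso α := by
  classical
  obtain ⟨e, he⟩ : ∃ e, ComplexShape.embeddingUpIntGE a = e := ⟨_, rfl⟩
  have hs : K.IsStrictlySupported e := by subst he; infer_instance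
  have hR : e.IsRelIff := by subst he; infer_instance
  obtain ⟨Z, hZ, hIZ⟩ := hI0
  obtain ⟨K₀, hK₀⟩ : ∃ K₀, K.restriction e = K₀ := ⟨_, rfl⟩
  subst hK₀
  have hl : e.HasLift (𝟙 (K.restriction e)) := fun j hj i' hi' => by
    have : IsZero (K.X i') := by
      refine K.isZero_X_of_isStrictlySupported e i' fun j' hj' => ?_
      subst he
      exact ComplexShape.Embedding.BoundaryGE.notMem hj hi' j' hj'
    exact this.eq_of_src _ _
  have hlift : ∀ n, IsIso ((e.liftExtend (𝟙 (K.restriction e)) hl).f n) := fun n => by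
    by_cases h : ∃ k, e.f k = n
    · obtain ⟨k, hk⟩ := h
      rw [e.isIso_liftExtend_f_iff _ _ hk]
      exact inferInstanceAs (IsIso (𝟙 _))
    · push_neg at h
      exact ⟨0, (K.isZero_X_of_isStrictlySupported e n h).eq_of_src _ _,
        (HomologicalComplex.isZero_extend_X _ e n h).eq_of_src _ _⟩
  have : IsIso (e.liftExtend (𝟙 (K.restriction e)) hl) := by
    exact HomologicalComplex.Hom.isIso_of_components _
  let R := res hI (K.restriction e)
  let r : ℤ → A := fun n => if h : ∃ k, e.f k = n then R.X h.choose else Z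
  have hr : ∀ n, Nonempty (r n ≅ (R.extend e).X n) := fun n => by
    by_cases h : ∃ k, e.f k = n
    · exact ⟨eqToIso (dif_pos h) ≪≫ (R.extendXIso e h.choose_spec).symm⟩
    · exact ⟨eqToIso (dif_neg h) ≪≫ hZ.iso (HomologicalComplex.isZero_extend_X _ e n (by simpa using h))⟩
  let φ : ∀ n, r n ≅ (R.extend e).X n := fun n => (hr n).some
  let L : CochainComplex A ℤ :=
    { X := r
      d := fun i j => (φ i).hom ≫ (R.extend e).d i j ≫ (φ j).inv
      shape := fun i j hij => by rw [(R.extend e).shape i j hij, zero_comp, comp_zero]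
      d_comp_d' := fun i j k _ _ => by simp }
  let ψ : R.extend e ≅ L := HomologicalComplex.Hom.isoOfComponents (fun n => (φ n).symm)
    (fun i j _ => by simp [L])
  refine ⟨L, e.liftExtend (𝟙 (K.restriction e)) hl ≫
    HomologicalComplex.extendMap (resι hI (K.restriction e)) e ≫ ψ.hom, ?_, fun n => ?_, fun n => ?_, ?_⟩
  · rw [CochainComplex.isStrictlyGE_iff]
    intro n hn
    refine (HomologicalComplex.isZero_extend_X R e n ?_).of_iso (φ n)
    intro k hk
    subst he
    simp only [ComplexShape.embeddingUpIntGE_f] at hk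
    lia
  · change I (r n)
    by_cases h : ∃ k, e.f k = n
    · simp only [r, dif_pos h]; exact res_mem hI _ _
    · simp only [r, dif_neg h]; exact hIZ
  · have := hlift n
    have : Mono ((HomologicalComplex.extendMap (resι hI (K.restriction e)) e).f n) := by
      by_cases h : ∃ k, e.f k = n
      · obtain ⟨k, hk⟩ := h
        have := mono_resι_f hI (K.restriction e) k
        rw [HomologicalComplex.extendMap_f _ e hk]
        infer_instance
      · exact ((HomologicalComplex.isZero_extend_X _ e n (by simpa using h))).mono _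
    simp only [HomologicalComplex.comp_f]
    infer_instance
  · have := quasiIso_resι hI (K.restriction e)
    have : QuasiIso (HomologicalComplex.extendMap (resι hI (K.restriction e)) e) := by
      rw [HomologicalComplex.quasiIso_extendMap_iff]; infer_instance
    infer_instance

theorem exists_resolution (hI0 : ∃ Z : A, IsZero Z ∧ I Z)
    (hI : ∀ X : A, ∃ (Y : A) (ι : X ⟶ Y), I Y ∧ Mono ι)
    (K : CochainComplex A ℤ) (a : ℤ) [K.IsGE a] :
    ∃ (L : CochainComplex A ℤ) (α : K ⟶ L), L.IsStrictlyGE a ∧ (∀ n, I (L.X n)) ∧ QuasiIso α := by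
  obtain ⟨L, α, h1, h2, -, h4⟩ := exists_resolution_mono hI0 hI (K.truncGE a) a
  exact ⟨L, K.πTruncGE a ≫ α, h1, h2, inferInstance⟩

end int

end Groth.Agent.ClassRes
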